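import Mathlib

/-!
Diameter two of odd-product graphs.
-/

set_option autoImplicit false

namespace Cfsg.SymGraph

theorem diam_two {V : Type*} (G : SimpleGraph V)
    (h : ∀ u v, u ≠ v → G.Adj u v ∨ ∃ w, G.Adj u w ∧ G.Adj w v)
    (h' : ∃ u v, u ≠ v ∧ ¬ G.Adj u v) : G.Connected ∧ G.diam = 2 := by
  obtain ⟨u₀, v₀, hne, hna⟩ := h'
  haveI : Nonempty V := ⟨u₀⟩
  have hle : ∀ u v, G.edist u v ≤ ((2 : ℕ) : ℕ∞) := by
    intro u v
    by_cases e : u = v
    · subst e
      simp
    rcases h u v e with a | ⟨w, a, b⟩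
    · exact a.toWalk.edist_le.trans (by simp)
    · exact (a.toWalk.append b.toWalk).edist_le.trans (by simp)
  have hd : G.ediam ≤ ((2 : ℕ) : ℕ∞) := SimpleGraph.ediam_le_of_edist_le hle
  have htop : G.ediam ≠ ⊤ := ne_top_of_le_ne_top (by simp) hd
  have hc := SimpleGraph.connected_of_ediam_ne_top htop
  refine ⟨hc, le_antisymm ?_ ?_⟩
  · exact (ENat.toNat_le_toNat hd (by simp)).trans (by simp)
  · refine le_trans ?_ (SimpleGraph.dist_le_diam htop (u := u₀) (v := v₀))
    have h0 : G.dist u₀ v₀ ≠ 0 := fun e => hne (hc.dist_eq_zero_iff.1 e)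
    have h1 : G.dist u₀ v₀ ≠ 1 := fun e => hna (SimpleGraph.dist_eq_one_iff_adj.1 e)
    omega

/-- The graph of odd products on a class of involutions. -/
theorem class_graph {G : Type*} [Group G] (t : G) (ht : t * t = 1)
    (hgood : ∀ x y : G, IsConj t x → IsConj t y → x ≠ y →
      ∃ z, IsConj y z ∧ Odd (orderOf (x * z)) ∧ Odd (orderOf (y * z)))
    (hcomm : ∃ s, IsConj t s ∧ s ≠ t ∧ t * s = s * t) :
    (SimpleGraph.fromRel fun x y : {x : G // IsConj t x} => Odd (orderOf (x.1 * y.1))).Connected ∧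
      (SimpleGraph.fromRel fun x y : {x : G // IsConj t x} => Odd (orderOf (x.1 * y.1))).diam = 2 := by
  have hsymm : ∀ a b : G, Odd (orderOf (a * b)) → Odd (orderOf (b * a)) := fun a b h => by
    have e : (MulAut.conj b).toMonoidHom (a * b) = b * a := by simp [MulAut.conj_apply]; group
    rw [← e, orderOf_injective _ (MulAut.conj b).injective]
    exact h
  have hinv : ∀ x : G, IsConj t x → x * x = 1 := by
    intro x hx
    obtain ⟨g, rfl⟩ := isConj_iff.1 hx
    calc g * t * g⁻¹ * (g * t * g⁻¹) = g * (t * t) * g⁻¹ := by group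
      _ = 1 := by rw [ht]; group
  apply diam_two
  · rintro ⟨x, hx⟩ ⟨y, hy⟩ hne
    obtain ⟨z, hz, h1, h2⟩ := hgood x y hx hy (fun e => hne (Subtype.ext e))
    by_cases e1 : z = x
    · left
      subst e1
      exact ⟨hne, Or.inr h2⟩
    by_cases e2 : z = y
    · left
      subst e2
      exact ⟨hne, Or.inl h1⟩
    exact Or.inr ⟨⟨z, hy.trans hz⟩, ⟨fun e => e1 (congrArg Subtype.val e).symm, Or.inl h1⟩,
      ⟨fun e => e2 (congrArg Subtype.val e), Or.inl (hsymm y z h2)⟩⟩
  · obtain ⟨s, hs, hne, hc⟩ := hcomm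
    refine ⟨⟨t, IsConj.refl t⟩, ⟨s, hs⟩, fun e => hne (congrArg Subtype.val e).symm, ?_⟩
    rintro ⟨-, h | h⟩
    all_goals
      have hsq : (t * s) ^ 2 = 1 := by
        calc (t * s) ^ 2 = t * (s * t) * s := by rw [pow_two]; group
          _ = (t * t) * (s * s) := by rw [← hc]; group
          _ = 1 := by rw [ht, hinv s hs, one_mul]
      have h' : Odd (orderOf (t * s)) := by first | exact h | (rw [hc]; exact h)
      have h1 : orderOf (t * s) = 1 := by
        rcases (Nat.dvd_prime Nat.prime_two).1 (orderOf_dvd_of_pow_eq_one hsq) with e | e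
        · exact e
        · rw [e] at h'; exact absurd h' (by decide)
      exact hne ((mul_eq_one_iff_inv_eq.1 (orderOf_eq_one_iff.1 h1)).symm.trans
        (inv_eq_of_mul_eq_one_right ht))

end Cfsg.SymGraph
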