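import Cfsg.Agent.InvolCalc.SymGraph.Search

/-!
The last pair of even cycles, and the main theorem.
-/

set_option autoImplicit false
set_option linter.unusedSectionVars false

namespace Cfsg.SymGraph

open Equiv

variable {α : Type*} [Finite α] [DecidableEq α] {x y z : Perm α} {T : Set α}

/-- One pair and a fixed point. -/
theorem last_fixed (S : State x y z T) {p r : α} (hp : ¬ OddPt (y * z) p) (hx : ¬ On (y * z) p (z p))
    (hpair : ∀ u, ¬ OddPt (y * z) u → On (y * z) p u ∨ On (y * z) (z p) u)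
    (hr : z r = r) (hro : OddPt (y * z) r) (hrT : r ∉ T) : Good x y := by
  set σ := y * z with hσ
  have hzp : ¬ OddPt σ (z p) := fun h => hp (S.odd_z.1 h)
  have e1 : p ≠ z p := fun e => hx (by rw [← e]; exact on_refl σ p)
  have n2 : ¬ On σ p r := fun h => hp (oddPt_on hro (on_symm h))
  have n3 : ¬ On σ (z p) r := fun h => hzp (oddPt_on hro (on_symm h))
  have e2 : p ≠ r := fun e => n2 (e ▸ on_refl σ p)
  have e3 : z p ≠ r := fun e => n3 (e ▸ on_refl σ (z p))
  obtain ⟨v1, v2, v3, v4⟩ := tri_vals e1 e2 e3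
  have hm := move_tri S.zz e1 e2 e3 rfl hr
  have happ : ∀ u, (y * (z * tri p (z p) r)) u = σ (tri p (z p) r u) := fun u => rfl
  have hodd : Odd (per σ p + per σ (z p) + per σ r) := by
    rw [hσ, S.per_z]
    exact (Even.add_odd (even_two_mul (per (y * z) p)) (oddPt_iff_per.1 hro)) |> fun h => by rwa [two_mul] at h
  have hall := merge_three hx n2 n3 hodd (by rw [happ, v1]) (by rw [happ, v2]) (by rw [happ, v3])
    (fun u _ h1 h2 h3 => by rw [happ, v4 u h1 h2 h3])
  refine good_move S hm ?_ ?_ ?_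
  · intro u hu
    simp only [Set.mem_insert_iff, Set.mem_singleton_iff] at hu
    rcases hu with rfl | rfl | rfl
    exacts [S.not_mem hp, S.not_mem hzp, hrT]
  · rintro u ⟨m, hm', hu⟩
    simp only [Set.mem_insert_iff, Set.mem_singleton_iff] at hm'
    rcases hm' with rfl | rfl | rfl
    exacts [hall u (Or.inl hu), hall u (Or.inr (Or.inl hu)), hall u (Or.inr (Or.inr hu))]
  · intro u hu
    rcases hpair u hu with h | h
    · exact ⟨p, by simp, h⟩
    · exact ⟨z p, by simp, h⟩

/-- One pair and a mirror pair of odd cycles. -/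
theorem last_odd (S : State x y z T) {p d : α} (hp : ¬ OddPt (y * z) p) (hx : ¬ On (y * z) p (z p))
    (hpair : ∀ u, ¬ OddPt (y * z) u → On (y * z) p u ∨ On (y * z) (z p) u)
    (hd : OddPt (y * z) d) (hd' : ¬ On (y * z) d (z d)) (hdT : d ∉ T) (hdT' : z d ∉ T) : Good x y := by
  set σ := y * z with hσ
  set p' := σ p with hp'
  set k := per σ p with hk
  set l := per σ d with hl
  have hk2 : 2 ≤ k := two_le_per hp
  have hzp : ¬ OddPt σ (z p) := fun h => hp (S.odd_z.1 h)
  have hpp : On σ p p' := on_step p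
  have hne : p' ≠ p := apply_ne hp
  have hzp' : σ (z p') = z p := S.apply_z p
  have hzpp : On σ (z p) (z p') := S.on_z hpp
  have nd : ∀ u, On σ p u ∨ On σ (z p) u → ¬ On σ d u ∧ ¬ On σ (z d) u := by
    intro u hu
    have hu' : ¬ OddPt σ u := fun h => hu.elim (fun e => hp (oddPt_on h (on_symm e))) (fun e => hzp (oddPt_on h (on_symm e)))
    exact ⟨fun e => hu' (oddPt_on hd e), fun e => hu' (oddPt_on (S.odd_z.2 hd) e)⟩
  have e1 : p ≠ z p' := fun e => hx (on_symm (e ▸ hzpp))
  have e2 : p ≠ d := fun e => (nd p (Or.inl (on_refl σ p))).1 (e ▸ on_refl σ p)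
  have e3 : z p' ≠ d := fun e => (nd _ (Or.inr hzpp)).1 (e ▸ on_refl σ d)
  obtain ⟨hm, w1, w2, w3, w4, w5, w6⟩ := move_pair S.zz e1 e2 e3 rfl (S.zz p').symm rfl (fun u hu => by
    rcases hu with rfl | rfl | rfl
    · refine ⟨fun e => hx ?_, fun e => hne (z.injective e).symm, fun e => ?_⟩
      · rw [e]; exact on_refl σ _
      · exact (nd _ (Or.inr (on_refl σ _))).1 (by rw [e]; exact on_refl σ _)
    · rw [S.zz]
      refine ⟨hne, fun e => hx ?_, fun e => ?_⟩
      · refine on_trans hpp ?_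
        conv_lhs => rw [e]
        exact on_symm hzpp
      · exact (nd _ (Or.inl hpp)).1 (by rw [e]; exact on_refl σ _)
    · refine ⟨fun e => ?_, fun e => ?_, fun e => hd' ?_⟩
      · exact (nd _ (Or.inl (on_refl σ p))).2 (by rw [← e]; exact on_refl σ _)
      · have e' := z.injective e
        exact (nd _ (Or.inl hpp)).1 (by rw [e']; exact on_refl σ _)
      · rw [e]; exact on_refl σ _)
  set w := tri p (z p') d * tri (z d) p' (z p) with hw
  have happ : ∀ u, (y * (z * w)) u = σ (w u) := fun u => rfl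
  set ρ := y * (z * w) with hρ
  have p1 : ρ p = z p := by rw [happ, w1, hzp']
  have p2 : ρ (z p') = σ d := by rw [happ, w2]
  have p3 : ρ d = σ p := by rw [happ, w3]
  have p4 : ρ (z d) = σ p' := by rw [happ, w4]
  have p5 : ρ p' = σ (z p) := by rw [happ, w5]
  have p6 : ρ (z p) = σ (z d) := by rw [happ, w6]
  have hsame : ∀ u, u ∉ ({p, z p', d, z d, p', z p} : Set α) → ρ u = σ u := fun u hu => by rw [happ, hm.fix u hu]
  have hperp' : per σ p' = k := per_on hpp
  have hperzp : per σ (z p) = k := S.per_z p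
  have hperzd : per σ (z d) = l := S.per_z d
  -- `C`
  obtain ⟨c1, c2⟩ := round_two (σ := σ) (σ' := ρ) (a := p') (by omega) (fun u hu h1 h2 => hsame u (by
    have hu' : On σ p u := on_trans hpp hu
    simp only [Set.mem_insert_iff, Set.mem_singleton_iff, not_or]
    exact ⟨fun e => h2 (by rw [e]), fun e => hx (on_symm (on_trans hzpp (on_symm (e ▸ hu')))),
      fun e => (nd u (Or.inl hu')).1 (e ▸ on_refl σ _), fun e => (nd u (Or.inl hu')).2 (e ▸ on_refl σ _),
      h1, fun e => hx (e ▸ hu')⟩))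
  have hpred : (σ ^ (per σ p' - 1)) p' = p := σ.injective (pred_apply σ p')
  rw [hperp'] at c1 c2
  rw [hperp'] at hpred
  rw [hpred] at c1
  -- `z C`
  obtain ⟨b1, b2⟩ := round_two (σ := σ) (σ' := ρ) (a := z p) (by omega) (fun u hu h1 h2 => hsame u (by
    simp only [Set.mem_insert_iff, Set.mem_singleton_iff, not_or]
    exact ⟨fun e => hx (on_symm (e ▸ hu)), fun e => h2 (by rw [e, hzp']),
      fun e => (nd u (Or.inr hu)).1 (e ▸ on_refl σ _), fun e => (nd u (Or.inr hu)).2 (e ▸ on_refl σ _),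
      fun e => hx (on_trans hpp (on_symm (e ▸ hu))), h1⟩))
  have hpredz : (σ ^ (per σ (z p) - 1)) (z p) = z p' := σ.injective ((pred_apply σ (z p)).trans hzp'.symm)
  rw [hperzp] at b1 b2 hpredz
  rw [hpredz] at b1
  -- `D`, `z D`
  obtain ⟨d1, d2⟩ := round (σ := σ) (σ' := ρ) (a := d) (fun u hu hne' => hsame u (by
    simp only [Set.mem_insert_iff, Set.mem_singleton_iff, not_or]
    exact ⟨fun e => (nd u (Or.inl (e ▸ on_refl σ _))).1 hu, fun e => (nd u (Or.inr (e ▸ hzpp))).1 hu,
      hne', fun e => hd' (e ▸ hu), fun e => (nd u (Or.inl (e ▸ hpp))).1 hu,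
      fun e => (nd u (Or.inr (e ▸ on_refl σ _))).1 hu⟩))
  obtain ⟨f1, f2⟩ := round (σ := σ) (σ' := ρ) (a := z d) (fun u hu hne' => hsame u (by
    simp only [Set.mem_insert_iff, Set.mem_singleton_iff, not_or]
    exact ⟨fun e => (nd u (Or.inl (e ▸ on_refl σ _))).2 hu, fun e => (nd u (Or.inr (e ▸ hzpp))).2 hu,
      fun e => hd' (on_symm (e ▸ hu)), hne', fun e => (nd u (Or.inl (e ▸ hpp))).2 hu,
      fun e => (nd u (Or.inr (e ▸ on_refl σ _))).2 hu⟩))
  rw [← hl] at d1 d2
  rw [hperzd] at f1 f2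
  -- first cycle
  have g1 : (ρ ^ (k - 2 + 1)) (σ p') = z p := by rw [pow_succ', Perm.mul_apply, c1, p1]
  have g2 : (ρ ^ (1 + (k - 2 + 1))) (σ p') = σ (z d) := by rw [pow_add, Perm.mul_apply, g1, pow_one, p6]
  have g3 : (ρ ^ (1 + (l - 1 + (1 + (k - 2 + 1))))) (σ p') = σ p' := by
    rw [pow_add, pow_add, Perm.mul_apply, Perm.mul_apply, g2, f1, pow_one, p4]
  -- second cycle
  have i1 : (ρ ^ (k - 2 + 1)) (σ (z p)) = σ d := by rw [pow_succ', Perm.mul_apply, b1, p2]
  have i2 : (ρ ^ (1 + (l - 1 + (k - 2 + 1)))) (σ (z p)) = σ p := by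
    rw [pow_add, pow_add, Perm.mul_apply, Perm.mul_apply, i1, d1, pow_one, p3]
  have i3 : (ρ ^ (1 + (1 + (l - 1 + (k - 2 + 1))))) (σ (z p)) = σ (z p) := by
    rw [pow_add ρ 1 (1 + (l - 1 + (k - 2 + 1))), Perm.mul_apply, i2, pow_one, ← hp', p5]
  have hkeven : Even k := Nat.not_odd_iff_even.1 fun h => hp (oddPt_iff_per.2 h)
  have hlodd : Odd l := oddPt_iff_per.1 hd
  have hL : Odd (1 + (l - 1 + (1 + (k - 2 + 1)))) := by
    obtain ⟨u, hu⟩ := hkeven
    obtain ⟨v, hv⟩ := hlodd
    exact ⟨u + v, by omega⟩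
  have hL' : Odd (1 + (1 + (l - 1 + (k - 2 + 1)))) := by
    obtain ⟨u, hu⟩ := hkeven
    obtain ⟨v, hv⟩ := hlodd
    exact ⟨u + v, by omega⟩
  have first : ∀ u, (On σ p u ∧ u ≠ p') ∨ On σ (z d) u ∨ u = z p → OddPt ρ u := by
    intro u hu
    refine oddPt_of_path hL g3 ?_
    rcases hu with ⟨hu, hne'⟩ | hu | rfl
    · obtain ⟨i, -, hi⟩ := c2 u (on_trans (on_symm hpp) hu) hne'
      exact ⟨i, hi⟩
    · obtain ⟨i, -, hi⟩ := f2 u hu
      exact ⟨i + (1 + (k - 2 + 1)), by rw [pow_add, Perm.mul_apply, g2, hi]⟩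
    · exact ⟨_, g1⟩
  have second : ∀ u, (On σ (z p) u ∧ u ≠ z p) ∨ On σ d u ∨ u = p' → OddPt ρ u := by
    intro u hu
    refine oddPt_of_path hL' i3 ?_
    rcases hu with ⟨hu, hne'⟩ | hu | rfl
    · obtain ⟨i, -, hi⟩ := b2 u hu hne'
      exact ⟨i, hi⟩
    · obtain ⟨i, -, hi⟩ := d2 u hu
      exact ⟨i + (k - 2 + 1), by rw [pow_add, Perm.mul_apply, i1, hi]⟩
    · exact ⟨_, i2⟩
  have hC : ∀ u, On σ p u → OddPt ρ u := fun u hu => by
    by_cases h : u = p'
    · exact second u (Or.inr (Or.inr h))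
    · exact first u (Or.inl ⟨hu, h⟩)
  have hzC : ∀ u, On σ (z p) u → OddPt ρ u := fun u hu => by
    by_cases h : u = z p
    · exact first u (Or.inr (Or.inr h))
    · exact second u (Or.inl ⟨hu, h⟩)
  refine good_move S hm ?_ ?_ ?_
  · intro u hu
    simp only [Set.mem_insert_iff, Set.mem_singleton_iff] at hu
    rcases hu with rfl | rfl | rfl | rfl | rfl | rfl
    exacts [S.not_mem hp, S.not_mem fun h => hzp (oddPt_on h (on_symm hzpp)), hdT, hdT',
      S.not_mem fun h => hp (oddPt_on h (on_symm hpp)), S.not_mem hzp]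
  · rintro u ⟨m, hm', hu⟩
    simp only [Set.mem_insert_iff, Set.mem_singleton_iff] at hm'
    rcases hm' with rfl | rfl | rfl | rfl | rfl | rfl
    exacts [hC u hu, hzC u (on_trans hzpp hu), second u (Or.inr (Or.inl hu)), first u (Or.inr (Or.inl hu)),
      hC u (on_trans hpp hu), hzC u hu]
  · intro u hu
    rcases hpair u hu with h | h
    · exact ⟨p, by simp, h⟩
    · exact ⟨z p, by simp, h⟩

/-- A single long pair. -/
theorem last_alone (S : State x y z T) {p : α} (hp : ¬ OddPt (y * z) p) (hx : ¬ On (y * z) p (z p))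
    (hk : 3 ≤ per (y * z) p) (hpair : ∀ u, On (y * z) p u ∨ On (y * z) (z p) u) : Good x y := by
  set σ := y * z with hσ
  set k := per σ p with hkdef
  have hkeven : Even k := Nat.not_odd_iff_even.1 fun h => hp (oddPt_iff_per.2 h)
  have hperz : per σ (z p) = k := S.per_z p
  set b := (σ ^ (k - 1)) p with hb
  have hbp : σ b = p := pred_apply σ p
  set g := z (σ p) with hg
  have hgz : σ g = z p := S.apply_z p
  have hzb : σ (z p) = z b := by
    conv_lhs => rw [← hbp]
    exact S.apply_z b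
  have hg' : (σ ^ (k - 1)) (z p) = g := σ.injective ((by rw [← hperz]; exact pred_apply σ (z p) : σ _ = z p).trans hgz.symm)
  have hzpg : On σ (z p) g := hg' ▸ on_apply σ _ _
  have hzpb : On σ (z p) (z b) := hzb ▸ on_step _
  have hpb : On σ p b := on_apply σ p _
  have hnop : ∀ u, On σ p u → ¬ On σ (z p) u := fun u h h' => hx (on_trans h (on_symm h'))
  have hinjp : ∀ i j, i < k → j < k → (σ ^ i) p = (σ ^ j) p → i = j := fun i j hi hj h => pow_injOn hi hj h
  have hinjz : ∀ i j, i < k → j < k → (σ ^ i) (z p) = (σ ^ j) (z p) → i = j :=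
    fun i j hi hj h => pow_injOn (by omega) (by omega) h
  have hp1 : σ p = (σ ^ 1) p := by rw [pow_one]
  have hz1 : z b = (σ ^ 1) (z p) := by rw [pow_one, hzb]
  have npb : p ≠ b := fun e => by have := hinjp 0 (k - 1) (by omega) (by omega) e; omega
  have np1b : σ p ≠ b := fun e => by have := hinjp 1 (k - 1) (by omega) (by omega) (hp1 ▸ e); omega
  have npp1 : σ p ≠ p := apply_ne hp
  have e1 : p ≠ g := fun e => hnop p (on_refl σ p) (e ▸ hzpg)
  have e2 : b ≠ g := fun e => hnop b hpb (e ▸ hzpg)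
  obtain ⟨hm, w1, w2, w3, w4, w5, w6⟩ := move_pair S.zz npb e1 e2 (a' := σ p) (by rw [hg, S.zz]) rfl rfl (fun u hu => by
    rcases hu with rfl | rfl | rfl
    · exact ⟨fun e => hnop _ (on_refl σ _) (e.symm ▸ on_refl σ _), fun e => hnop _ hpb (e ▸ on_refl σ _),
        fun e => npp1 (z.injective e).symm⟩
    · exact ⟨fun e => hnop _ (on_refl σ _) (e ▸ hzpb), fun e => hnop _ hpb (e.symm ▸ hzpb),
        fun e => np1b (z.injective e).symm⟩
    · rw [S.zz]
      exact ⟨npp1, np1b, fun e => hnop _ (on_step p) (e ▸ hzpg)⟩)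
  set w := tri p b g * tri (σ p) (z b) (z p) with hw
  have happ : ∀ u, (y * (z * w)) u = σ (w u) := fun u => rfl
  set ρ := y * (z * w) with hρ
  have p1 : ρ p = p := by rw [happ, w1, hbp]
  have p2 : ρ b = z p := by rw [happ, w2, hgz]
  have p3 : ρ g = σ p := by rw [happ, w3]
  have p4 : ρ (σ p) = σ (z b) := by rw [happ, w4]
  have p5 : ρ (z b) = z b := by rw [happ, w5, hzb]
  have p6 : ρ (z p) = σ (σ p) := by rw [happ, w6]
  have hsame : ∀ u, u ∉ ({p, b, g, σ p, z b, z p} : Set α) → ρ u = σ u := fun u hu => by rw [happ, hm.fix u hu]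
  have hagree : ∀ i ≤ k - 3, (ρ ^ i) ((σ ^ 2) p) = (σ ^ i) ((σ ^ 2) p) := pow_eq_of_agree (fun i hi => by
    have he : (σ ^ i) ((σ ^ 2) p) = (σ ^ (i + 2)) p := by rw [← Perm.mul_apply, ← pow_add]
    rw [he]
    refine hsame _ ?_
    simp only [Set.mem_insert_iff, Set.mem_singleton_iff, not_or]
    refine ⟨fun e => ?_, fun e => ?_, fun e => hnop _ (on_apply σ p (i + 2)) (by rw [e]; exact hzpg), fun e => ?_,
      fun e => hnop _ (on_apply σ p (i + 2)) (by rw [e]; exact hzpb), fun e => hnop _ (on_apply σ p (i + 2)) (by rw [e]; exact on_refl σ _)⟩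
    · have := hinjp (i + 2) 0 (by omega) (by omega) e; omega
    · have := hinjp (i + 2) (k - 1) (by omega) (by omega) e; omega
    · have := hinjp (i + 2) 1 (by omega) (by omega) (hp1 ▸ e); omega)
  have hagree' : ∀ i ≤ k - 3, (ρ ^ i) ((σ ^ 2) (z p)) = (σ ^ i) ((σ ^ 2) (z p)) := pow_eq_of_agree (fun i hi => by
    have he : (σ ^ i) ((σ ^ 2) (z p)) = (σ ^ (i + 2)) (z p) := by rw [← Perm.mul_apply, ← pow_add]
    rw [he]
    refine hsame _ ?_
    simp only [Set.mem_insert_iff, Set.mem_singleton_iff, not_or]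
    refine ⟨fun e => hnop p (on_refl σ p) (e.subst (motive := fun v => On σ (z p) v) (on_apply σ (z p) (i + 2))), fun e => hnop b hpb (e.subst (motive := fun v => On σ (z p) v) (on_apply σ (z p) (i + 2))),
      fun e => ?_, fun e => hnop _ (on_step p) (e.subst (motive := fun v => On σ (z p) v) (on_apply σ (z p) (i + 2))), fun e => ?_, fun e => ?_⟩
    · have := hinjz (i + 2) (k - 1) (by omega) (by omega) (e.trans hg'.symm); omega
    · have := hinjz (i + 2) 1 (by omega) (by omega) (hz1 ▸ e); omega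
    · have := hinjz (i + 2) 0 (by omega) (by omega) e; omega)
  have q2 : σ (σ p) = (σ ^ 2) p := by rw [pow_two]; rfl
  have r2 : σ (z b) = (σ ^ 2) (z p) := (congrArg σ hzb).symm.trans (by rw [pow_two]; rfl)
  have a1 : (ρ ^ (k - 3)) ((σ ^ 2) p) = b := by
    rw [hagree _ le_rfl, ← Perm.mul_apply, ← pow_add, hb, show k - 3 + 2 = k - 1 by omega]
  have a2 : (ρ ^ (1 + (k - 3))) ((σ ^ 2) p) = z p := by rw [pow_add, Perm.mul_apply, a1, pow_one, p2]
  have a3 : (ρ ^ (1 + (1 + (k - 3)))) ((σ ^ 2) p) = (σ ^ 2) p := by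
    rw [pow_add ρ 1 (1 + (k - 3)), Perm.mul_apply, a2, pow_one, p6, q2]
  have b1 : (ρ ^ (k - 3)) ((σ ^ 2) (z p)) = g := by
    rw [hagree' _ le_rfl, ← Perm.mul_apply, ← pow_add, show k - 3 + 2 = k - 1 by omega, hg']
  have b2 : (ρ ^ (1 + (k - 3))) ((σ ^ 2) (z p)) = σ p := by rw [pow_add, Perm.mul_apply, b1, pow_one, p3]
  have b3 : (ρ ^ (1 + (1 + (k - 3)))) ((σ ^ 2) (z p)) = (σ ^ 2) (z p) := by
    rw [pow_add ρ 1 (1 + (k - 3)), Perm.mul_apply, b2, pow_one, p4, r2]
  have hL : Odd (1 + (1 + (k - 3))) := by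
    obtain ⟨u, hu⟩ := hkeven
    exact ⟨u - 1, by omega⟩
  have hallp : ∀ u, OddPt ρ u := by
    intro u
    rcases hpair u with h | h
    · obtain ⟨i, hi, rfl⟩ := on_lt h
      rcases i with - | - | i
      · exact ⟨1, odd_one, by rw [pow_one]; exact p1⟩
      · rw [zero_add, pow_one]
        exact oddPt_of_path hL b3 ⟨_, b2⟩
      · exact oddPt_of_path hL a3 ⟨i, by rw [hagree i (by omega), ← Perm.mul_apply, ← pow_add]⟩
    · obtain ⟨i, hi, rfl⟩ := on_lt h
      rcases i with - | - | i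
      · exact oddPt_of_path hL a3 ⟨_, a2⟩
      · rw [zero_add, pow_one, hzb]
        exact ⟨1, odd_one, by rw [pow_one]; exact p5⟩
      · exact oddPt_of_path hL b3 ⟨i, by rw [hagree' i (by omega), ← Perm.mul_apply, ← pow_add]⟩
  refine good_move S hm ?_ (fun u _ => hallp u) ?_
  · intro u hu
    refine S.not_mem fun h => ?_
    rcases hpair u with h' | h'
    · exact hp (oddPt_on h (on_symm h'))
    · exact hp (S.odd_z.1 (oddPt_on h (on_symm h')))
  · intro u _
    rcases hpair u with h | h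
    · exact ⟨p, by simp, h⟩
    · exact ⟨z p, by simp, h⟩

/-- The number of points of even period. -/
noncomputable def evenCount (σ : Perm α) : ℕ := Nat.card {p : α // ¬ OddPt σ p}

theorem evenCount_lt {σ σ' : Perm α} (h : ∀ p, OddPt σ p → OddPt σ' p) {a : α} (ha : ¬ OddPt σ a)
    (ha' : OddPt σ' a) : evenCount σ' < evenCount σ := by
  classical
  haveI := Fintype.ofFinite α
  rw [evenCount, evenCount, Nat.card_eq_fintype_card, Nat.card_eq_fintype_card, Fintype.card_subtype,
    Fintype.card_subtype]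
  refine Finset.card_lt_card ⟨fun p hp => ?_, fun hsub => ?_⟩
  · simp only [Finset.mem_filter, Finset.mem_univ, true_and] at hp ⊢
    exact fun hp' => hp (h p hp')
  · have := hsub (Finset.mem_filter.2 ⟨Finset.mem_univ a, ha⟩)
    exact (Finset.mem_filter.1 this).2 ha'

theorem search (h5 : 5 ≤ Nat.card α) : ∀ n (z : Perm α) (T : Set α), State x y z T →
    (T = ∅ ∨ ∃ p, p ∉ T ∧ OddPt (y * z) p) →
    ((∀ p, z p ≠ p) ∨ ∃ p, p ∉ T ∧ z p = p) →
    evenCount (y * z) = n → Good x y := by
  intro n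
  induction n using Nat.strong_induction_on with
  | _ n ih =>
    intro z T S htt hfx hn
    by_cases hall : ∀ p, OddPt (y * z) p
    · exact good_of S hall
    push Not at hall
    obtain ⟨p, hp⟩ := hall
    by_cases hself : ∃ p, ¬ OddPt (y * z) p ∧ On (y * z) p (z p)
    · obtain ⟨a, ha, ha'⟩ := hself
      obtain ⟨⟨r, hr, hr'⟩, q, hq, hq'⟩ := self_even S ha ha'
      obtain ⟨z', T', S', hold, hqo, ⟨u, hu1, hu2, hu3⟩⟩ := step_fixed S hr hq hr' hq'
      exact ih _ (hn ▸ evenCount_lt hold hq' hqo) z' T' S' (Or.inr ⟨u, hu1, hu2⟩) (Or.inr ⟨u, hu1, hu3⟩) rfl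
    push Not at hself
    by_cases hpair : ∃ c, ¬ OddPt (y * z) c ∧ ¬ On (y * z) p c ∧ ¬ On (y * z) (z p) c
    · obtain ⟨c, hc, h1, h2⟩ := hpair
      obtain ⟨z', T', S', hold, hpo, hu, hfree, hkeep⟩ := step_pairs S hp hc hself h1 h2
      refine ih _ (hn ▸ evenCount_lt hold hp hpo) z' T' S' (Or.inr hu) ?_ rfl
      rcases hfx with hf | ⟨r, hrT, hr⟩
      · exact Or.inl (hfree hf)
      · have hro : OddPt (y * z) r := by
          by_contra hro
          exact hself r hro (by rw [hr]; exact on_refl _ _)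
        exact Or.inr ⟨r, hkeep r hrT hro hr⟩
    push Not at hpair
    have hpair' : ∀ u, ¬ OddPt (y * z) u → On (y * z) p u ∨ On (y * z) (z p) u := fun u hu => by
      by_cases h : On (y * z) p u
      · exact Or.inl h
      · exact Or.inr (hpair u hu h)
    have hxp := hself p hp
    rcases hfx with hf | ⟨r, hrT, hr⟩
    · by_cases hd : ∃ d, d ∉ T ∧ OddPt (y * z) d
      · obtain ⟨d, hdT, hdo⟩ := hd
        refine last_odd S hp hxp hpair' hdo ?_ hdT ?_
        · -- an odd self-mirror cycle would contain a fixed point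
          rintro ⟨i, hi⟩
          obtain ⟨k, hk⟩ := oddPt_iff_per.1 hdo
          rcases Nat.even_or_odd' i with ⟨j, rfl | rfl⟩
          · refine hf (((y * z) ^ j) d) ?_
            apply ((y * z) ^ j).injective
            rw [S.rev_pow, ← hi, ← Perm.mul_apply, ← pow_add, two_mul]
          · refine hf (((y * z) ^ (j + k + 1)) d) ?_
            apply ((y * z) ^ (j + k + 1)).injective
            rw [S.rev_pow, ← hi, ← Perm.mul_apply, ← pow_add,
              show j + k + 1 + (j + k + 1) = (2 * j + 1) + per (y * z) d by omega,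
              pow_add _ (2 * j + 1) (per (y * z) d), Perm.mul_apply, pow_per]
        · intro h
          exact hdT (by simpa [S.zz] using S.zT _ h)
      · have hT : T = ∅ := by
          rcases htt with h | h
          · exact h
          · exact absurd h hd
        push Not at hd
        have hallev : ∀ u, On (y * z) p u ∨ On (y * z) (z p) u := fun u =>
          hpair' u (fun ho => by
            have := hd u (by rw [hT]; exact Set.notMem_empty u)
            exact this ho)
        refine last_alone S hp hxp ?_ hallev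
        by_contra hk
        classical
        haveI := Fintype.ofFinite α
        have hle : (Finset.univ : Finset α) ⊆ {p, (y * z) p, z p, (y * z) (z p)} := by
          intro u _
          have hp2 := two_le_per hp
          rcases hallev u with h | h
          · obtain ⟨i, hi, rfl⟩ := on_lt h
            interval_cases (per (y * z) p)
            interval_cases i <;> simp
          · obtain ⟨i, hi, rfl⟩ := on_lt h
            rw [S.per_z] at hi
            interval_cases (per (y * z) p)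
            interval_cases i <;> simp
        have h := (Finset.card_le_card hle).trans Finset.card_le_four
        rw [Finset.card_univ, ← Nat.card_eq_fintype_card] at h
        omega
    · refine last_fixed S hp hxp hpair' hr ?_ hrT
      by_contra hro
      exact hself r hro (by rw [hr]; exact on_refl _ _)

/-- Two conjugate involutions have a conjugate with odd products with both. -/
theorem main (h5 : 5 ≤ Nat.card α) {x y : Perm α} (hx : ∀ q, x (x q) = q) (hy : ∀ q, y (y q) = q)
    (hc : IsConj x y) : Good x y := by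
  classical
  have S : State x y x ∅ := ⟨hy, hx, hx, hc.symm, fun q => by simp [hx], fun q _ => rfl, by simp, by simp⟩
  refine search h5 _ x ∅ S (Or.inl rfl) ?_ rfl
  by_cases h : ∀ p, x p ≠ p
  · exact Or.inl h
  · push Not at h
    obtain ⟨p, hp⟩ := h
    exact Or.inr ⟨p, Set.notMem_empty p, hp⟩

end Cfsg.SymGraph
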