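import Mathlib

/-!
Splitting and joining of the cycles of a permutation.
-/

set_option autoImplicit false
set_option linter.unusedSectionVars false

namespace Cfsg.SymGraph

variable {α : Type*}

open Equiv

/-- `p` has odd period. -/
def OddPt (σ : Perm α) (p : α) : Prop := ∃ L : ℕ, Odd L ∧ (σ ^ L) p = p

/-- `q` is on the cycle of `p`. -/
def On (σ : Perm α) (p q : α) : Prop := ∃ i : ℕ, (σ ^ i) p = q

theorem on_refl (σ : Perm α) (p : α) : On σ p p := ⟨0, rfl⟩

theorem on_trans {σ : Perm α} {p q r : α} (h₁ : On σ p q) (h₂ : On σ q r) : On σ p r := by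
  obtain ⟨i, rfl⟩ := h₁
  obtain ⟨j, rfl⟩ := h₂
  exact ⟨j + i, by rw [pow_add]; rfl⟩

theorem on_apply (σ : Perm α) (p : α) (i : ℕ) : On σ p ((σ ^ i) p) := ⟨i, rfl⟩

theorem on_symm [Finite α] {σ : Perm α} {p q : α} (h : On σ p q) : On σ q p := by
  obtain ⟨i, rfl⟩ := h
  refine ⟨i * (orderOf σ - 1), ?_⟩
  rw [← Perm.mul_apply, ← pow_add, ← Nat.mul_succ, show (orderOf σ - 1).succ = orderOf σ by
    have := orderOf_pos σ; omega, mul_comm, pow_mul, pow_orderOf_eq_one, one_pow]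
  rfl

theorem oddPt_on {σ : Perm α} {p q : α} (h : OddPt σ p) (hq : On σ p q) : OddPt σ q := by
  obtain ⟨L, hL, he⟩ := h
  obtain ⟨i, rfl⟩ := hq
  refine ⟨L, hL, ?_⟩
  rw [← Perm.mul_apply, ← pow_add, add_comm, pow_add, Perm.mul_apply, he]

theorem oddPt_on_iff [Finite α] {σ : Perm α} {p q : α} (hq : On σ p q) : OddPt σ p ↔ OddPt σ q :=
  ⟨fun h => oddPt_on h hq, fun h => oddPt_on h (on_symm hq)⟩

/-- The length of the cycle of a point. -/
noncomputable def per [Finite α] (σ : Perm α) (p : α) : ℕ :=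
  sInf {L : ℕ | 0 < L ∧ (σ ^ L) p = p}

theorem per_spec [Finite α] (σ : Perm α) (p : α) : 0 < per σ p ∧ (σ ^ per σ p) p = p :=
  Nat.sInf_mem (s := {L : ℕ | 0 < L ∧ (σ ^ L) p = p})
    ⟨orderOf σ, orderOf_pos σ, by rw [pow_orderOf_eq_one]; rfl⟩

theorem per_pos [Finite α] (σ : Perm α) (p : α) : 0 < per σ p := (per_spec σ p).1

theorem pow_per [Finite α] (σ : Perm α) (p : α) : (σ ^ per σ p) p = p := (per_spec σ p).2

theorem pow_mul_per [Finite α] (σ : Perm α) (p : α) (k : ℕ) : (σ ^ (per σ p * k)) p = p := by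
  induction k with
  | zero => rfl
  | succ k ih => rw [Nat.mul_succ, pow_add, Perm.mul_apply, pow_per, ih]

theorem per_dvd [Finite α] {σ : Perm α} {p : α} {L : ℕ} (h : (σ ^ L) p = p) : per σ p ∣ L := by
  have h1 : (σ ^ (L % per σ p)) p = p := by
    rw [← Nat.mod_add_div L (per σ p), pow_add, Perm.mul_apply, pow_mul_per] at h
    exact h
  by_contra hne
  have h2 : 0 < L % per σ p := Nat.pos_of_ne_zero fun e => hne (Nat.dvd_of_mod_eq_zero e)
  have h3 := Nat.sInf_le (s := {L : ℕ | 0 < L ∧ (σ ^ L) p = p}) ⟨h2, h1⟩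
  exact absurd h3 (not_le.2 (Nat.mod_lt _ (per_pos σ p)))

theorem oddPt_iff_per [Finite α] {σ : Perm α} {p : α} : OddPt σ p ↔ Odd (per σ p) :=
  ⟨fun ⟨_, hL, he⟩ => hL.of_dvd_nat (per_dvd he), fun h => ⟨_, h, pow_per σ p⟩⟩

theorem pow_injOn [Finite α] {σ : Perm α} {p : α} {i j : ℕ} (hi : i < per σ p) (hj : j < per σ p)
    (h : (σ ^ i) p = (σ ^ j) p) : i = j := by
  rcases le_total i j with hij | hij
  · obtain ⟨d, rfl⟩ := Nat.exists_eq_add_of_le hij
    rw [pow_add, Perm.mul_apply] at h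
    have := per_dvd ((σ ^ i).injective h).symm
    rcases Nat.eq_zero_or_pos d with rfl | hd
    · rfl
    · exact absurd (Nat.le_of_dvd hd this) (by omega)
  · obtain ⟨d, rfl⟩ := Nat.exists_eq_add_of_le hij
    rw [pow_add, Perm.mul_apply] at h
    have := per_dvd ((σ ^ j).injective h)
    rcases Nat.eq_zero_or_pos d with rfl | hd
    · rfl
    · exact absurd (Nat.le_of_dvd hd this) (by omega)

theorem on_lt [Finite α] {σ : Perm α} {p q : α} (h : On σ p q) : ∃ i < per σ p, (σ ^ i) p = q := by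
  obtain ⟨i, rfl⟩ := h
  refine ⟨i % per σ p, Nat.mod_lt _ (per_pos σ p), ?_⟩
  conv_rhs => rw [← Nat.mod_add_div i (per σ p)]
  rw [pow_add, Perm.mul_apply, pow_mul_per]

theorem per_on [Finite α] {σ : Perm α} {p q : α} (h : On σ p q) : per σ q = per σ p := by
  have key : ∀ {p q : α}, On σ p q → per σ q ∣ per σ p := by
    intro p q h
    obtain ⟨i, rfl⟩ := h
    apply per_dvd
    rw [← Perm.mul_apply, ← pow_add, add_comm, pow_add, Perm.mul_apply, pow_per]
  exact Nat.dvd_antisymm (key h) (key (on_symm h))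

/-- Two permutations agreeing along a path. -/
theorem pow_eq_of_agree {σ σ' : Perm α} {u : α} :
    ∀ {L : ℕ}, (∀ i < L, σ' ((σ ^ i) u) = σ ((σ ^ i) u)) → ∀ i ≤ L, (σ' ^ i) u = (σ ^ i) u := by
  intro L h i hi
  induction i with
  | zero => rfl
  | succ i ih =>
    rw [pow_succ', pow_succ', Perm.mul_apply, Perm.mul_apply, ih (by omega), h i (by omega)]

theorem on_step {σ : Perm α} (p : α) : On σ p (σ p) := ⟨1, by rw [pow_one]⟩

/-- Cycles not met by the change are unchanged. -/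
theorem oddPt_agree {σ σ' : Perm α} {p : α} (h : ∀ q, On σ p q → σ' q = σ q) (hp : OddPt σ p) :
    OddPt σ' p := by
  obtain ⟨L, hL, he⟩ := hp
  exact ⟨L, hL, (pow_eq_of_agree (L := L) (fun i _ => h _ (on_apply σ p i)) L le_rfl).trans he⟩

/-- A whole cycle entered after `a`, left at `a`. -/
theorem round [Finite α] {σ σ' : Perm α} {a : α}
    (h : ∀ q, On σ a q → q ≠ a → σ' q = σ q) :
    (σ' ^ (per σ a - 1)) (σ a) = a ∧
      ∀ q, On σ a q → ∃ i ≤ per σ a - 1, (σ' ^ i) (σ a) = q := by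
  have hpow : ∀ i, (σ ^ i) (σ a) = (σ ^ (i + 1)) a := fun i => by rw [pow_succ]; rfl
  have hag := pow_eq_of_agree (σ := σ) (σ' := σ') (u := σ a) (L := per σ a - 1) (fun i hi => by
    rw [hpow]
    refine h _ (on_apply σ a _) fun e => ?_
    have := per_dvd e
    have := Nat.le_of_dvd (by omega) this
    omega)
  constructor
  · rw [hag _ le_rfl, hpow, Nat.sub_add_cancel (per_pos σ a), pow_per]
  · intro q hq
    obtain ⟨i, hi, rfl⟩ := on_lt hq
    rcases i with - | i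
    · refine ⟨per σ a - 1, le_rfl, ?_⟩
      rw [hag _ le_rfl, hpow, Nat.sub_add_cancel (per_pos σ a), pow_per]
      rfl
    · exact ⟨i, by omega, by rw [hag i (by omega), hpow]⟩

/-- A cycle with the two marks `a` and `σ⁻¹ a`. -/
theorem round_two [Finite α] {σ σ' : Perm α} {a : α} (h2 : 2 ≤ per σ a)
    (h : ∀ q, On σ a q → q ≠ a → σ q ≠ a → σ' q = σ q) :
    (σ' ^ (per σ a - 2)) (σ a) = (σ ^ (per σ a - 1)) a ∧
      ∀ q, On σ a q → q ≠ a → ∃ i ≤ per σ a - 2, (σ' ^ i) (σ a) = q := by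
  have hpow : ∀ i, (σ ^ i) (σ a) = (σ ^ (i + 1)) a := fun i => by rw [pow_succ]; rfl
  have hag := pow_eq_of_agree (σ := σ) (σ' := σ') (u := σ a) (L := per σ a - 2) (fun i hi => by
    rw [hpow]
    refine h _ (on_apply σ a _) (fun e => ?_) (fun e => ?_)
    · have := Nat.le_of_dvd (by omega) (per_dvd e)
      omega
    · rw [← Perm.mul_apply, ← pow_succ'] at e
      have := Nat.le_of_dvd (by omega) (per_dvd e)
      omega)
  constructor
  · rw [hag _ le_rfl, hpow, show per σ a - 2 + 1 = per σ a - 1 by omega]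
  · intro q hq hqa
    obtain ⟨i, hi, rfl⟩ := on_lt hq
    rcases i with - | i
    · exact absurd rfl hqa
    · exact ⟨i, by omega, by rw [hag i (by omega), hpow]⟩

theorem two_le_per [Finite α] {σ : Perm α} {a : α} (h : ¬ OddPt σ a) : 2 ≤ per σ a := by
  by_contra hlt
  exact h (oddPt_iff_per.2 (by rw [show per σ a = 1 by have := per_pos σ a; omega]; exact odd_one))

/-- The predecessor. -/
theorem pred_apply [Finite α] (σ : Perm α) (a : α) : σ ((σ ^ (per σ a - 1)) a) = a := by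
  rw [← Perm.mul_apply, ← pow_succ', Nat.sub_add_cancel (per_pos σ a), pow_per]

theorem apply_ne [Finite α] {σ : Perm α} {a : α} (h : ¬ OddPt σ a) : σ a ≠ a := fun e =>
  h ⟨1, odd_one, by rw [pow_one]; exact e⟩

/-- An odd period: everything on the orbit is odd. -/
theorem oddPt_of_path {σ : Perm α} {u : α} {L : ℕ} (hL : Odd L) (h : (σ ^ L) u = u) {q : α}
    (hq : ∃ i, (σ ^ i) u = q) : OddPt σ q :=
  oddPt_on ⟨L, hL, h⟩ hq

/-- Split: `(a, σ⁻¹ a, c)` on two even cycles gives two odd cycles. -/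
theorem merge_two [Finite α] {σ σ' : Perm α} {a b c : α} (ha : ¬ OddPt σ a) (hc : ¬ OddPt σ c)
    (hac : ¬ On σ a c) (hb : σ b = a)
    (h1 : σ' a = a) (h2 : σ' b = σ c) (h3 : σ' c = σ a)
    (hag : ∀ q, (On σ a q ∨ On σ c q) → q ≠ a → q ≠ b → q ≠ c → σ' q = σ q) :
    ∀ q, (On σ a q ∨ On σ c q) → OddPt σ' q := by
  have h2a := two_le_per ha
  have hbeq : b = (σ ^ (per σ a - 1)) a := σ.injective (hb.trans (pred_apply σ a).symm)
  obtain ⟨r1, r2⟩ := round (σ := σ) (σ' := σ') (a := c) (fun q hq hne =>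
    hag q (Or.inr hq) (fun e => hac (e ▸ on_symm hq))
      (fun e => hac (on_trans (hbeq ▸ on_apply σ a _) (e ▸ on_symm hq))) hne)
  obtain ⟨s1, s2⟩ := round_two (σ := σ) (σ' := σ') h2a (fun q hq hne hne' =>
    hag q (Or.inl hq) hne (fun e => hne' (e ▸ hb)) (fun e => hac (e ▸ hq)))
  -- the long cycle starting at `σ a`
  have e1 : (σ' ^ (per σ a - 2 + 1)) (σ a) = σ c := by
    rw [pow_succ', Perm.mul_apply, s1, ← hbeq, h2]
  have e2 : (σ' ^ ((per σ c - 1) + (per σ a - 2 + 1))) (σ a) = c := by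
    rw [pow_add, Perm.mul_apply, e1, r1]
  have e3 : (σ' ^ (1 + ((per σ c - 1) + (per σ a - 2 + 1)))) (σ a) = σ a := by
    rw [pow_add, Perm.mul_apply, e2, pow_one, h3]
  have hA : Even (per σ a) := Nat.not_odd_iff_even.1 fun h => ha (oddPt_iff_per.2 h)
  have hC : Even (per σ c) := Nat.not_odd_iff_even.1 fun h => hc (oddPt_iff_per.2 h)
  have hodd : Odd (1 + ((per σ c - 1) + (per σ a - 2 + 1))) := by
    obtain ⟨u, hu⟩ := hA
    obtain ⟨v, hv⟩ := hC
    have := per_pos σ c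
    exact ⟨u + v - 1, by omega⟩
  intro q hq
  by_cases hqa : q = a
  · exact ⟨1, odd_one, by rw [pow_one, hqa, h1]⟩
  refine oddPt_of_path hodd e3 ?_
  rcases hq with hq | hq
  · obtain ⟨i, -, hi⟩ := s2 q hq hqa
    exact ⟨i, hi⟩
  · obtain ⟨i, -, hi⟩ := r2 q hq
    exact ⟨i + (per σ a - 2 + 1), by rw [pow_add, Perm.mul_apply, e1, hi]⟩

/-- Join: `(a, b, c)` on three cycles of total odd length. -/
theorem merge_three [Finite α] {σ σ' : Perm α} {a b c : α} (hab : ¬ On σ a b) (hac : ¬ On σ a c)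
    (hbc : ¬ On σ b c) (hodd : Odd (per σ a + per σ b + per σ c))
    (h1 : σ' a = σ b) (h2 : σ' b = σ c) (h3 : σ' c = σ a)
    (hag : ∀ q, (On σ a q ∨ On σ b q ∨ On σ c q) → q ≠ a → q ≠ b → q ≠ c → σ' q = σ q) :
    ∀ q, (On σ a q ∨ On σ b q ∨ On σ c q) → OddPt σ' q := by
  obtain ⟨a1, a2⟩ := round (σ := σ) (σ' := σ') (a := a) (fun q hq hne =>
    hag q (Or.inl hq) hne (fun e => hab (e ▸ hq)) (fun e => hac (e ▸ hq)))
  obtain ⟨b1, b2⟩ := round (σ := σ) (σ' := σ') (a := b) (fun q hq hne =>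
    hag q (Or.inr (Or.inl hq)) (fun e => hab (on_symm (e ▸ hq))) hne (fun e => hbc (e ▸ hq)))
  obtain ⟨c1, c2⟩ := round (σ := σ) (σ' := σ') (a := c) (fun q hq hne =>
    hag q (Or.inr (Or.inr hq)) (fun e => hac (on_symm (e ▸ hq))) (fun e => hbc (on_symm (e ▸ hq))) hne)
  have pa := per_pos σ a
  have pb := per_pos σ b
  have pc := per_pos σ c
  have e1 : (σ' ^ per σ a) (σ a) = σ b := by
    rw [show per σ a = 1 + (per σ a - 1) by omega, pow_add, Perm.mul_apply, a1, pow_one, h1]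
  have e2 : (σ' ^ per σ b) (σ b) = σ c := by
    rw [show per σ b = 1 + (per σ b - 1) by omega, pow_add, Perm.mul_apply, b1, pow_one, h2]
  have e3 : (σ' ^ per σ c) (σ c) = σ a := by
    rw [show per σ c = 1 + (per σ c - 1) by omega, pow_add, Perm.mul_apply, c1, pow_one, h3]
  have e4 : (σ' ^ (per σ a + per σ b + per σ c)) (σ a) = σ a := by
    rw [show per σ a + per σ b + per σ c = per σ c + (per σ b + per σ a) by omega, pow_add, pow_add,
      Perm.mul_apply, Perm.mul_apply, e1, e2, e3]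
  intro q hq
  refine oddPt_of_path hodd e4 ?_
  rcases hq with hq | hq | hq
  · obtain ⟨i, -, hi⟩ := a2 q hq
    exact ⟨i, hi⟩
  · obtain ⟨i, -, hi⟩ := b2 q hq
    exact ⟨i + per σ a, by rw [pow_add, Perm.mul_apply, e1, hi]⟩
  · obtain ⟨i, -, hi⟩ := c2 q hq
    exact ⟨i + (per σ b + per σ a), by rw [pow_add, pow_add, Perm.mul_apply, Perm.mul_apply, e1, e2, hi]⟩

/-- All periods odd: odd order. -/
theorem odd_orderOf [Finite α] {σ : Perm α} (h : ∀ p, OddPt σ p) : Odd (orderOf σ) := by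
  classical
  haveI := Fintype.ofFinite α
  have hodd : Odd (∏ p, per σ p) := by
    refine Finset.prod_induction _ Odd (fun _ _ ha hb => ha.mul hb) odd_one fun p _ => oddPt_iff_per.1 (h p)
  refine hodd.of_dvd_nat (orderOf_dvd_of_pow_eq_one ?_)
  ext p
  obtain ⟨k, hk⟩ := Finset.dvd_prod_of_mem (fun p => per σ p) (Finset.mem_univ p)
  rw [hk, pow_mul_per]
  rfl

theorem oddPt_of_odd_orderOf {σ : Perm α} (h : Odd (orderOf σ)) (p : α) : OddPt σ p :=
  ⟨_, h, by rw [pow_orderOf_eq_one]; rfl⟩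

end Cfsg.SymGraph
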