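import Cfsg.Agent.InvolCalc.SymGraph.Steps

/-!
The search for the middle involution.
-/

set_option autoImplicit false
set_option linter.unusedSectionVars false

namespace Cfsg.SymGraph

open Equiv

variable {α : Type*} [Finite α] [DecidableEq α] {x y z : Perm α} {T : Set α}

/-- The property wanted. -/
def Good (x y : Perm α) : Prop :=
  ∃ z : Perm α, IsConj y z ∧ Odd (orderOf (x * z)) ∧ Odd (orderOf (y * z))

theorem good_of (S : State x y z T) (h : ∀ p, OddPt (y * z) p) : Good x y := by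
  refine ⟨z, S.conj, ?_, odd_orderOf h⟩
  have h3 : (x * z) ^ 3 = 1 := by
    ext q
    simp only [pow_succ, pow_zero, one_mul, Perm.mul_apply, Perm.one_apply]
    exact S.cube q
  exact (by decide : Odd 3).of_dvd_nat (orderOf_dvd_of_pow_eq_one h3)

theorem good_move (S : State x y z T) {w : Perm α} {M : Set α} (hm : Move z w M) (hdisj : ∀ q ∈ M, q ∉ T)
    (hcover : ∀ q, (∃ m ∈ M, On (y * z) m q) → OddPt (y * (z * w)) q)
    (hall : ∀ q, ¬ OddPt (y * z) q → ∃ m ∈ M, On (y * z) m q) : Good x y := by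
  obtain ⟨S', hold, -⟩ := S.step hm hdisj hcover
  refine good_of S' fun p => ?_
  by_cases h : OddPt (y * z) p
  · exact hold p h
  · exact hcover p (hall p h)

/-- `z`-fixed and `y`-fixed points on even cycles come together. -/
theorem fixed_both (S : State x y z T) (y' z' : Perm α) (hy : ∀ q, y' (y' q) = q) (hz : ∀ q, z' (z' q) = q)
    (hconj : IsConj y' z') (h : ∀ q, y' q = q → OddPt (y' * z') q) : ∀ r, z' r = r → OddPt (y' * z') r := by
  classical
  haveI := Fintype.ofFinite α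
  set ρ := y' * z' with hρ
  have rev : ∀ i q, (ρ ^ i) (z' ((ρ ^ i) q)) = z' q := by
    intro i
    induction i with
    | zero => intro q; rfl
    | succ i ih =>
      intro q
      have h1 : ∀ q, ρ (z' (ρ q)) = z' q := fun q => by simp [hρ, hy, hz]
      have e1 : (ρ ^ (i + 1)) q = ρ ((ρ ^ i) q) := by rw [pow_succ', Perm.mul_apply]
      rw [e1, pow_succ, Perm.mul_apply, h1]
      exact ih q
  let f : {q : α // y' q = q} → {r : α // z' r = r} := fun q =>
    ⟨(ρ ^ (per ρ q.1 / 2)) q.1, by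
      obtain ⟨k, hk⟩ := oddPt_iff_per.1 (h q.1 q.2)
      have hk2 : per ρ q.1 / 2 = k := by omega
      rw [hk2]
      apply (ρ ^ (k + 1)).injective
      have h1 : ρ (z' q.1) = q.1 := by simp [hρ, hz, q.2]
      have h3 : (ρ ^ (k + 1)) ((ρ ^ k) q.1) = q.1 := by
        rw [← Perm.mul_apply, ← pow_add, show k + 1 + k = per ρ q.1 by omega, pow_per]
      rw [h3, pow_succ', Perm.mul_apply, rev, h1]⟩
  have hinj : Function.Injective f := by
    intro q q' he
    have he' : (ρ ^ (per ρ q.1 / 2)) q.1 = (ρ ^ (per ρ q'.1 / 2)) q'.1 := congrArg Subtype.val he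
    obtain ⟨k, hk⟩ := oddPt_iff_per.1 (h q.1 q.2)
    obtain ⟨k', hk'⟩ := oddPt_iff_per.1 (h q'.1 q'.2)
    rw [show per ρ q.1 / 2 = k by omega, show per ρ q'.1 / 2 = k' by omega] at he'
    have hon : On ρ q.1 q'.1 := on_trans (on_apply ρ q.1 k) (he' ▸ on_symm (on_apply ρ q'.1 k'))
    have hkk : k = k' := by
      have := per_on hon
      omega
    subst hkk
    exact Subtype.ext ((ρ ^ k).injective he')
  obtain ⟨g, hg⟩ := isConj_iff.1 hconj
  have hcard : Nat.card {q : α // y' q = q} = Nat.card {r : α // z' r = r} := by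
    refine Nat.card_congr (g.subtypeEquiv fun q => ?_)
    rw [← hg]
    simp
  have hsurj := ((Nat.bijective_iff_injective_and_card f).2 ⟨hinj, hcard⟩).2
  intro r hr
  obtain ⟨q, hq⟩ := hsurj ⟨r, hr⟩
  have hq' : (ρ ^ (per ρ q.1 / 2)) q.1 = r := congrArg Subtype.val hq
  exact hq' ▸ oddPt_on (h q.1 q.2) (on_apply ρ q.1 _)

variable (S : State x y z T)
include S

theorem State.conj' : IsConj z y := S.conj.symm

theorem State.not_mem {p : α} (hp : ¬ OddPt (y * z) p) : p ∉ T := fun h => hp (S.odd p h)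

/-- A self-mirror even cycle yields both kinds of fixed points. -/
theorem self_even {p : α} (hp : ¬ OddPt (y * z) p) (hself : On (y * z) p (z p)) :
    (∃ r, z r = r ∧ ¬ OddPt (y * z) r) ∧ ∃ q, y q = q ∧ ¬ OddPt (y * z) q := by
  obtain ⟨i, hi⟩ := hself
  have hone : (∃ r, z r = r ∧ ¬ OddPt (y * z) r) ∨ ∃ q, y q = q ∧ ¬ OddPt (y * z) q := by
    rcases Nat.even_or_odd' i with ⟨l, rfl | rfl⟩
    · refine Or.inl ⟨((y * z) ^ l) p, ?_, fun h => hp (oddPt_on h (on_symm (on_apply _ p l)))⟩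
      apply ((y * z) ^ l).injective
      rw [S.rev_pow, ← hi, ← Perm.mul_apply, ← pow_add, two_mul]
    · refine Or.inr ⟨((y * z) ^ (l + 1)) p, ?_, fun h => hp (oddPt_on h (on_symm (on_apply _ p _)))⟩
      have h1 : z (((y * z) ^ (l + 1)) p) = ((y * z) ^ l) p := by
        apply ((y * z) ^ (l + 1)).injective
        rw [S.rev_pow, ← hi, ← Perm.mul_apply, ← pow_add]
        congr 2
        omega
      have h2 : y (((y * z) ^ (l + 1)) p) = y (z (((y * z) ^ l) p)) := by rw [← h1, S.zz]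
      rw [h2, pow_succ', Perm.mul_apply]
      rfl
  have hsym : ∀ q, OddPt (z * y) q ↔ OddPt (y * z) q := by
    have e : z * y = (y * z)⁻¹ := by
      symm
      apply inv_eq_of_mul_eq_one_right
      ext u
      simp [S.yy, S.zz]
    have key : ∀ (σ : Perm α) q, OddPt σ q → OddPt σ⁻¹ q := by
      rintro σ q ⟨L, hL, he⟩
      refine ⟨L, hL, ?_⟩
      apply (σ ^ L).injective
      rw [← Perm.mul_apply, inv_pow, mul_inv_cancel, Perm.one_apply, he]
    intro q
    rw [e]
    exact ⟨fun h => by simpa using key _ q h, key _ q⟩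
  rcases hone with h | h
  · refine ⟨h, ?_⟩
    by_contra! hh
    obtain ⟨r, hr, hr'⟩ := h
    exact hr' (fixed_both S y z S.yy S.zz S.conj hh r hr)
  · refine ⟨?_, h⟩
    by_contra! hh
    obtain ⟨q, hq, hq'⟩ := h
    exact hq' ((hsym q).1 (fixed_both S z y S.zz S.yy S.conj' (fun r hr => (hsym r).2 (hh r hr)) q hq))

theorem pred_z (p : α) : (y * z) (z ((y * z) p)) = z p := S.apply_z p

/-- Step with fixed points on even cycles. -/
theorem step_fixed {r q : α} (hr : z r = r) (hq : y q = q) (hr' : ¬ OddPt (y * z) r)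
    (hq' : ¬ OddPt (y * z) q) :
    ∃ (z' : Perm α) (T' : Set α), State x y z' T' ∧ (∀ p, OddPt (y * z) p → OddPt (y * z') p) ∧
      OddPt (y * z') q ∧ (∃ p, p ∉ T' ∧ OddPt (y * z') p ∧ z' p = p) := by
  set σ := y * z with hσ
  set b := z q with hb
  have hbq : σ b = q := by simp [hσ, hb, S.zz, hq]
  have hqb : q ≠ b := fun e => apply_ne hq' (by rw [← e] at hbq; exact hbq)
  have hqr : ¬ On σ q r := by
    rintro ⟨i, hi⟩
    apply hr'
    have h1 : (σ ^ i) (z r) = z q := by rw [← hi]; exact S.rev_pow q i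
    rw [hr, ← hi, ← Perm.mul_apply, ← pow_add] at h1
    have h2 : (σ ^ (2 * i + 1)) q = q := by
      rw [pow_succ', Perm.mul_apply, two_mul, h1]; exact hbq
    exact absurd ⟨2 * i + 1, ⟨i, rfl⟩, h2⟩ hq'
  have hqr' : q ≠ r := fun e => hqr (e ▸ on_refl σ q)
  have hbr : b ≠ r := fun e => hqr (by
    rw [← e]
    exact on_symm (hbq ▸ on_step b))
  obtain ⟨v1, v2, v3, v4⟩ := tri_vals hqb hqr' hbr
  have hm := move_tri S.zz hqb hqr' hbr hb.symm hr
  have happ : ∀ u, (y * (z * tri q b r)) u = σ (tri q b r u) := fun u => rfl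
  have hodd : ∀ u, (On σ q u ∨ On σ r u) → OddPt (y * (z * tri q b r)) u :=
    merge_two hq' hr' hqr hbq (by rw [happ, v1, hbq]) (by rw [happ, v2]) (by rw [happ, v3])
      (fun u _ h1 h2 h3 => by rw [happ, v4 u h1 h2 h3])
  have hcover : ∀ u, (∃ m ∈ ({q, b, r} : Set α), On σ m u) → OddPt (y * (z * tri q b r)) u := by
    rintro u ⟨m, hm', hu⟩
    simp only [Set.mem_insert_iff, Set.mem_singleton_iff] at hm'
    rcases hm' with rfl | rfl | rfl
    · exact hodd u (Or.inl hu)
    · exact hodd u (Or.inl (on_trans (on_symm (hbq ▸ on_step b)) hu))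
    · exact hodd u (Or.inr hu)
  have hdisj : ∀ u ∈ ({q, b, r} : Set α), u ∉ T := by
    intro u hu
    simp only [Set.mem_insert_iff, Set.mem_singleton_iff] at hu
    rcases hu with rfl | rfl | rfl
    · exact S.not_mem hq'
    · exact S.not_mem fun h => hq' (S.odd_z.1 h)
    · exact S.not_mem hr'
  obtain ⟨S', hold, -⟩ := S.step hm hdisj hcover
  refine ⟨_, _, S', hold, hcover q ⟨q, by simp, on_refl σ q⟩, ?_⟩
  obtain ⟨t, ht⟩ := Nat.not_odd_iff_even.1 fun h => hr' (oddPt_iff_per.2 h)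
  set r₂ := (σ ^ t) r with hr₂
  have ht0 : 0 < t := by have := per_pos σ r; omega
  have hne : r₂ ≠ r := fun e => by
    have := Nat.le_of_dvd ht0 (per_dvd e)
    omega
  have hz₂ : z r₂ = r₂ := by
    apply (σ ^ t).injective
    rw [hr₂, hσ, S.rev_pow, hr, ← hσ, ← Perm.mul_apply, ← pow_add, ← ht, pow_per]
  have hn1 : r₂ ≠ q := fun e => hqr (on_symm (e ▸ on_apply σ r t))
  have hn2 : r₂ ≠ b := fun e => hqb (by
    rw [e, hb, S.zz] at hz₂
    exact hz₂)
  refine ⟨r₂, ?_, hodd r₂ (Or.inr (on_apply σ r t)), ?_⟩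
  · simp only [Set.mem_union, Set.mem_insert_iff, Set.mem_singleton_iff, not_or]
    exact ⟨S.not_mem fun h => hr' (oddPt_on h (on_symm (on_apply σ r t))), hn1, hn2, hne⟩
  · show z (tri q b r r₂) = r₂
    rw [v4 r₂ hn1 hn2 hne, hz₂]

/-- Step with two mirror pairs. -/
theorem step_pairs {a c : α} (ha : ¬ OddPt (y * z) a) (hc : ¬ OddPt (y * z) c)
    (hno : ∀ p, ¬ OddPt (y * z) p → ¬ On (y * z) p (z p))
    (hac : ¬ On (y * z) a c) (hac' : ¬ On (y * z) (z a) c) :
    ∃ (z' : Perm α) (T' : Set α), State x y z' T' ∧ (∀ p, OddPt (y * z) p → OddPt (y * z') p) ∧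
      OddPt (y * z') a ∧ (∃ p, p ∉ T' ∧ OddPt (y * z') p) ∧ ((∀ p, z p ≠ p) → ∀ p, z' p ≠ p) ∧
      (∀ p, p ∉ T → OddPt (y * z) p → z p = p → p ∉ T' ∧ z' p = p) := by
  set σ := y * z with hσ
  set b := (σ ^ (per σ a - 1)) a with hbdef
  have hab : On σ a b := on_apply σ a _
  have hba : σ b = a := pred_apply σ a
  have hne_ab : a ≠ b := fun e => apply_ne ha (by rw [← e] at hba; exact hba)
  have hne_ac : a ≠ c := fun e => hac (e ▸ on_refl σ a)
  have hne_bc : b ≠ c := fun e => hac (e ▸ hab)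
  have hzab : On σ (z a) (z b) := S.on_z hab
  -- four different cycles
  have x1 : ¬ On σ a (z a) := hno a ha
  have x2 : ¬ On σ c (z c) := hno c hc
  have x3 : ¬ On σ a (z c) := fun h => hac' (by
    have := S.on_z h
    rwa [S.zz] at this)
  have hd : ∀ u, (u = a ∨ u = b ∨ u = c) → z u ≠ a ∧ z u ≠ b ∧ z u ≠ c := by
    intro u hu
    have hcyc : ∀ v, On σ a v → On σ a u → z u ≠ v := fun v hv hu' e => by
      have h2 : On σ (z a) (z u) := S.on_z hu'
      rw [e] at h2
      exact x1 (on_trans hv (on_symm h2))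
    rcases hu with rfl | rfl | rfl
    · refine ⟨hcyc _ (on_refl σ _) (on_refl σ _), hcyc _ hab (on_refl σ _), fun e => hac' (e ▸ on_refl σ _)⟩
    · exact ⟨hcyc _ (on_refl σ _) hab, hcyc _ hab hab, fun e => hac' (e ▸ hzab)⟩
    · exact ⟨fun e => x3 (e ▸ on_refl σ _), fun e => x3 (e ▸ hab), fun e => x2 (e.symm ▸ on_refl σ _)⟩
  obtain ⟨hm, w1, w2, w3, w4, w5, w6⟩ := move_pair S.zz hne_ab hne_ac hne_bc rfl rfl rfl hd
  set w := tri a b c * tri (z c) (z b) (z a) with hw
  have happ : ∀ u, (y * (z * w)) u = σ (w u) := fun u => rfl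
  have hza : σ (z a) = z b := by
    conv_lhs => rw [← hba]
    exact S.apply_z b
  have hod1 : ∀ u, (On σ a u ∨ On σ c u) → OddPt (y * (z * w)) u := by
    refine merge_two ha hc hac hba (by rw [happ, w1, hba]) (by rw [happ, w2]) (by rw [happ, w3]) ?_
    intro u hu h1 h2 h3
    rw [happ, hm.fix u ?_]
    simp only [Set.mem_insert_iff, Set.mem_singleton_iff, not_or]
    refine ⟨h1, h2, h3, ?_, ?_, ?_⟩
    · rintro rfl
      rcases hu with hu | hu
      · exact x3 hu
      · exact x2 hu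
    · rintro rfl
      rcases hu with hu | hu
      · exact x1 (on_trans hu (on_symm hzab))
      · exact hac' (on_trans hzab (on_symm hu))
    · rintro rfl
      rcases hu with hu | hu
      · exact x1 hu
      · exact hac' (on_symm hu)
  have hod2 : ∀ u, (On σ (z b) u ∨ On σ (z c) u) → OddPt (y * (z * w)) u := by
    refine merge_two (a := z b) (b := z a) (c := z c)
      (fun h => ha (oddPt_on (S.odd_z.1 h) (on_symm hab))) (fun h => hc (S.odd_z.1 h))
      (fun h => hac (by
        have := S.on_z h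
        rw [S.zz, S.zz] at this
        exact on_trans hab this)) hza (by rw [happ, w5, hza]) (by rw [happ, w6]) (by rw [happ, w4]) ?_
    intro u hu h1 h2 h3
    rw [happ, hm.fix u ?_]
    simp only [Set.mem_insert_iff, Set.mem_singleton_iff, not_or]
    refine ⟨?_, ?_, ?_, h3, h1, h2⟩
    · rintro rfl
      rcases hu with hu | hu
      · exact x1 (on_symm (on_trans hzab hu))
      · exact x3 (on_symm hu)
    · rintro rfl
      rcases hu with hu | hu
      · exact x1 (on_trans hab (on_symm (on_trans hzab hu)))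
      · exact x3 (on_trans hab (on_symm hu))
    · rintro rfl
      rcases hu with hu | hu
      · exact hac' (on_trans hzab hu)
      · exact x2 (on_symm hu)
  have hcover : ∀ u, (∃ m ∈ ({a, b, c, z c, z b, z a} : Set α), On σ m u) → OddPt (y * (z * w)) u := by
    rintro u ⟨m, hm', hu⟩
    simp only [Set.mem_insert_iff, Set.mem_singleton_iff] at hm'
    rcases hm' with rfl | rfl | rfl | rfl | rfl | rfl
    · exact hod1 u (Or.inl hu)
    · exact hod1 u (Or.inl (on_trans hab hu))
    · exact hod1 u (Or.inr hu)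
    · exact hod2 u (Or.inr hu)
    · exact hod2 u (Or.inl hu)
    · exact hod2 u (Or.inl (on_trans (on_symm hzab) hu))
  have hMeven : ∀ m ∈ ({a, b, c, z c, z b, z a} : Set α), ¬ OddPt σ m := by
    intro m hm'
    simp only [Set.mem_insert_iff, Set.mem_singleton_iff] at hm'
    rcases hm' with rfl | rfl | rfl | rfl | rfl | rfl
    · exact ha
    · exact fun h => ha (oddPt_on h (on_symm hab))
    · exact hc
    · exact fun h => hc (S.odd_z.1 h)
    · exact fun h => ha (oddPt_on (S.odd_z.1 h) (on_symm hab))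
    · exact fun h => ha (S.odd_z.1 h)
  obtain ⟨S', hold, hfree⟩ := S.step hm (fun m hm' => S.not_mem (hMeven m hm')) hcover
  refine ⟨_, _, S', hold, hcover a ⟨a, by simp, on_refl σ a⟩, ⟨σ c, ?_, hod1 _ (Or.inr (on_step c))⟩, hfree, ?_⟩
  · simp only [Set.mem_union, Set.mem_insert_iff, Set.mem_singleton_iff, not_or]
    have hon : On σ c (σ c) := on_step c
    refine ⟨S.not_mem fun h => hc (oddPt_on h (on_symm hon)), fun e => hac (on_symm (e ▸ hon)),
      fun e => hac (on_trans hab (on_symm (e ▸ hon))), fun e => apply_ne hc e,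
      fun e => x2 (e ▸ hon), fun e => hac' (on_trans hzab (on_symm (e ▸ hon))),
      fun e => hac' (on_symm (e ▸ hon))⟩
  · intro p hpT hp hzp
    have hpM : p ∉ ({a, b, c, z c, z b, z a} : Set α) := fun h => hMeven p h hp
    refine ⟨fun h => h.elim hpT hpM, ?_⟩
    show z (w p) = p
    rw [hm.fix p hpM, hzp]

end Cfsg.SymGraph
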