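import Cfsg.Agent.InvolCalc.SymGraph.Orbits

/-!
Two conjugate involutions have a conjugate involution with odd products with both.
-/

set_option autoImplicit false
set_option linter.unusedSectionVars false

namespace Cfsg.SymGraph

open Equiv

variable {α : Type*} [Finite α] [DecidableEq α]

/-- The three-cycle `a → b → c → a`. -/
def tri (a b c : α) : Perm α := swap a b * swap b c

theorem tri_vals {a b c : α} (hab : a ≠ b) (hac : a ≠ c) (hbc : b ≠ c) :
    tri a b c a = b ∧ tri a b c b = c ∧ tri a b c c = a ∧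
      ∀ q, q ≠ a → q ≠ b → q ≠ c → tri a b c q = q := by
  refine ⟨?_, ?_, ?_, fun q ha hb hc => ?_⟩
  · simp [tri, Perm.mul_apply, swap_apply_of_ne_of_ne hab hac]
  · simp [tri, Perm.mul_apply, swap_apply_of_ne_of_ne hac.symm hbc.symm]
  · simp [tri, Perm.mul_apply]
  · simp [tri, Perm.mul_apply, swap_apply_of_ne_of_ne ha hb, swap_apply_of_ne_of_ne hb hc]

/-- The data of a change of the middle involution `z`. -/
structure Move (z : Perm α) (w : Perm α) (M : Set α) : Prop where
  cube : ∀ q, w (w (w q)) = q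
  inv : ∀ q, z (w (z (w q))) = q
  fix : ∀ q, q ∉ M → w q = q
  mir : ∀ q ∈ M, z q ∈ M

theorem move_tri {z : Perm α} (hz : ∀ q, z (z q) = q) {a b c : α} (hab : a ≠ b) (hac : a ≠ c)
    (hbc : b ≠ c) (za : z a = b) (zc : z c = c) : Move z (tri a b c) {a, b, c} := by
  obtain ⟨v1, v2, v3, v4⟩ := tri_vals hab hac hbc
  have zb : z b = a := by rw [← za, hz]
  refine ⟨fun q => ?_, fun q => ?_, fun q hq => ?_, fun q hq => ?_⟩
  · by_cases ha : q = a
    · rw [ha, v1, v2, v3]
    by_cases hb : q = b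
    · rw [hb, v2, v3, v1]
    by_cases hc : q = c
    · rw [hc, v3, v1, v2]
    rw [v4 q ha hb hc, v4 q ha hb hc, v4 q ha hb hc]
  · by_cases ha : q = a
    · rw [ha, v1, zb, v1, zb]
    by_cases hb : q = b
    · rw [hb, v2, zc, v3, za]
    by_cases hc : q = c
    · rw [hc, v3, za, v2, zc]
    have h1 : z q ≠ a := fun e => hb (by rw [← za, ← e, hz])
    have h2 : z q ≠ b := fun e => ha (by rw [← zb, ← e, hz])
    have h3 : z q ≠ c := fun e => hc (by rw [← zc, ← e, hz])
    rw [v4 q ha hb hc, v4 _ h1 h2 h3, hz]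
  · simp only [Set.mem_insert_iff, Set.mem_singleton_iff, not_or] at hq
    exact v4 q hq.1 hq.2.1 hq.2.2
  · simp only [Set.mem_insert_iff, Set.mem_singleton_iff] at hq ⊢
    rcases hq with rfl | rfl | rfl <;> simp [za, zb, zc]

/-- Two mirror three-cycles. -/
theorem move_pair {z : Perm α} (hz : ∀ q, z (z q) = q) {a b c a' b' c' : α}
    (hab : a ≠ b) (hac : a ≠ c) (hbc : b ≠ c)
    (ha' : a' = z c) (hb' : b' = z b) (hc' : c' = z a)
    (d : ∀ q, (q = a ∨ q = b ∨ q = c) → z q ≠ a ∧ z q ≠ b ∧ z q ≠ c) :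
    Move z (tri a b c * tri a' b' c') {a, b, c, a', b', c'} ∧
      (tri a b c * tri a' b' c') a = b ∧ (tri a b c * tri a' b' c') b = c ∧
      (tri a b c * tri a' b' c') c = a ∧ (tri a b c * tri a' b' c') a' = b' ∧
      (tri a b c * tri a' b' c') b' = c' ∧ (tri a b c * tri a' b' c') c' = a' := by
  subst ha' hb' hc'
  obtain ⟨v1, v2, v3, v4⟩ := tri_vals hab hac hbc
  obtain ⟨u1, u2, u3, u4⟩ := tri_vals (a := z c) (b := z b) (c := z a)
    (fun e => hbc (z.injective e).symm) (fun e => hac (z.injective e).symm) (fun e => hab (z.injective e).symm)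
  obtain ⟨da1, da2, da3⟩ := d a (Or.inl rfl)
  obtain ⟨db1, db2, db3⟩ := d b (Or.inr (Or.inl rfl))
  obtain ⟨dc1, dc2, dc3⟩ := d c (Or.inr (Or.inr rfl))
  set w := tri a b c * tri (z c) (z b) (z a) with hw
  have w1 : w a = b := by
    rw [hw, Perm.mul_apply, u4 a dc1.symm db1.symm da1.symm, v1]
  have w2 : w b = c := by
    rw [hw, Perm.mul_apply, u4 b dc2.symm db2.symm da2.symm, v2]
  have w3 : w c = a := by
    rw [hw, Perm.mul_apply, u4 c dc3.symm db3.symm da3.symm, v3]
  have w4 : w (z c) = z b := by rw [hw, Perm.mul_apply, u1, v4 _ db1 db2 db3]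
  have w5 : w (z b) = z a := by rw [hw, Perm.mul_apply, u2, v4 _ da1 da2 da3]
  have w6 : w (z a) = z c := by rw [hw, Perm.mul_apply, u3, v4 _ dc1 dc2 dc3]
  have w7 : ∀ q, q ≠ a → q ≠ b → q ≠ c → q ≠ z c → q ≠ z b → q ≠ z a → w q = q := fun q h1 h2 h3 h4 h5 h6 => by
    rw [hw, Perm.mul_apply, u4 q h4 h5 h6, v4 q h1 h2 h3]
  refine ⟨⟨fun q => ?_, fun q => ?_, fun q hq => ?_, fun q hq => ?_⟩, w1, w2, w3, w4, w5, w6⟩
  · by_cases e1 : q = a
    · rw [e1, w1, w2, w3]
    by_cases e2 : q = b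
    · rw [e2, w2, w3, w1]
    by_cases e3 : q = c
    · rw [e3, w3, w1, w2]
    by_cases e4 : q = z c
    · rw [e4, w4, w5, w6]
    by_cases e5 : q = z b
    · rw [e5, w5, w6, w4]
    by_cases e6 : q = z a
    · rw [e6, w6, w4, w5]
    rw [w7 q e1 e2 e3 e4 e5 e6, w7 q e1 e2 e3 e4 e5 e6, w7 q e1 e2 e3 e4 e5 e6]
  · by_cases e1 : q = a
    · rw [e1, w1, w5, hz]
    by_cases e2 : q = b
    · rw [e2, w2, w4, hz]
    by_cases e3 : q = c
    · rw [e3, w3, w6, hz]
    by_cases e4 : q = z c
    · rw [e4, w4, hz, w2]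
    by_cases e5 : q = z b
    · rw [e5, w5, hz, w1]
    by_cases e6 : q = z a
    · rw [e6, w6, hz, w3]
    rw [w7 q e1 e2 e3 e4 e5 e6, w7 (z q) (fun e => e6 (by rw [← e, hz])) (fun e => e5 (by rw [← e, hz]))
      (fun e => e4 (by rw [← e, hz])) (fun e => e3 (z.injective e)) (fun e => e2 (z.injective e))
      (fun e => e1 (z.injective e)), hz]
  · simp only [Set.mem_insert_iff, Set.mem_singleton_iff, not_or] at hq
    exact w7 q hq.1 hq.2.1 hq.2.2.1 hq.2.2.2.1 hq.2.2.2.2.1 hq.2.2.2.2.2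
  · simp only [Set.mem_insert_iff, Set.mem_singleton_iff] at hq ⊢
    rcases hq with rfl | rfl | rfl | rfl | rfl | rfl <;> simp [hz]

/-- The state. -/
structure State (x y z : Perm α) (T : Set α) : Prop where
  yy : ∀ q, y (y q) = q
  xx : ∀ q, x (x q) = q
  zz : ∀ q, z (z q) = q
  conj : IsConj y z
  cube : ∀ q, x (z (x (z (x (z q))))) = q
  agree : ∀ q, q ∉ T → x q = z q
  odd : ∀ q ∈ T, OddPt (y * z) q
  zT : ∀ q ∈ T, z q ∈ T

variable {x y z : Perm α} {T : Set α} (S : State x y z T)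
include S

theorem State.rev_pow (p : α) (i : ℕ) :
    ((y * z) ^ i) (z (((y * z) ^ i) p)) = z p := by
  induction i generalizing p with
  | zero => rfl
  | succ i ih =>
    have h1 : ∀ q, (y * z) (z ((y * z) q)) = z q := fun q => by
      simp only [Perm.mul_apply, S.zz, S.yy]
    have e1 : ((y * z) ^ (i + 1)) p = (y * z) (((y * z) ^ i) p) := by rw [pow_succ', Perm.mul_apply]
    rw [e1, pow_succ, Perm.mul_apply, h1]
    exact ih p

theorem State.on_z {p q : α} (h : On (y * z) p q) : On (y * z) (z p) (z q) := by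
  obtain ⟨i, rfl⟩ := h
  exact on_symm ⟨i, S.rev_pow p i⟩

theorem State.per_z (p : α) : per (y * z) (z p) = per (y * z) p := by
  have key : ∀ p, per (y * z) (z p) ∣ per (y * z) p := fun p => by
    apply per_dvd
    have := S.rev_pow p (per (y * z) p)
    rwa [pow_per] at this
  have := key (z p)
  rw [S.zz] at this
  exact Nat.dvd_antisymm (key p) this

theorem State.odd_z {p : α} : OddPt (y * z) (z p) ↔ OddPt (y * z) p := by
  rw [oddPt_iff_per, oddPt_iff_per, S.per_z]

theorem State.apply_z (p : α) : (y * z) (z ((y * z) p)) = z p := by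
  simpa using S.rev_pow p 1

omit S in
/-- A move, with all touched cycles becoming odd. -/
theorem State.step (S : State x y z T) {w : Perm α} {M : Set α} (hm : Move z w M)
    (hdisj : ∀ q ∈ M, q ∉ T)
    (hcover : ∀ q, (∃ m ∈ M, On (y * z) m q) → OddPt (y * (z * w)) q) :
    State x y (z * w) (T ∪ M) ∧ (∀ q, OddPt (y * z) q → OddPt (y * (z * w)) q) ∧
      ((∀ q, z q ≠ q) → ∀ q, (z * w) q ≠ q) := by
  have hold : ∀ q, OddPt (y * z) q → OddPt (y * (z * w)) q := by
    intro q hq
    by_cases h : ∃ m ∈ M, On (y * z) m q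
    · exact hcover q h
    · refine oddPt_agree (fun u hu => ?_) hq
      show y (z (w u)) = y (z u)
      rw [hm.fix u fun hu' => h ⟨u, hu', on_symm hu⟩]
  have hwz : ∀ q, z (w q) = w (w (z q)) := fun q => by
    have h1 := hm.inv q
    have h2 : w (z (w q)) = z q := by rw [← h1, S.zz, h1]
    have h3 := congrArg (fun u => w (w u)) h2
    rwa [hm.cube] at h3
  have hc : z * w = w * z * w⁻¹ := by
    rw [eq_mul_inv_iff_mul_eq]
    ext q
    simp only [Perm.mul_apply]
    rw [hwz, hwz, hm.cube]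
  refine ⟨⟨S.yy, S.xx, hm.inv, ?_, ?_, ?_, ?_, ?_⟩, hold, ?_⟩
  · exact S.conj.trans (isConj_iff.2 ⟨w, hc.symm⟩)
  · -- `x z` and `w` have disjoint supports
    have hfix : ∀ q, q ∉ T → x (z q) = q := fun q hq => by rw [← S.agree q hq, S.xx]
    have hcomm : ∀ q, x (z (w q)) = w (x (z q)) := by
      intro q
      by_cases hqT : q ∈ T
      · have hnM : q ∉ M := fun h => hdisj q h hqT
        have hT' : x (z q) ∈ T := by
          by_contra h
          have h2 := hfix _ h
          have e : x (z q) = q := (x * z).injective (show (x * z) (x (z q)) = (x * z) q from h2)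
          exact h (by rw [e]; exact hqT)
        rw [hm.fix q hnM, hm.fix _ fun h => hdisj _ h hT']
      · rw [hfix q hqT]
        by_cases hqM : q ∈ M
        · have hwM : w q ∈ M := by
            by_contra h
            have e : w q = q := w.injective (hm.fix _ h)
            exact h (by rw [e]; exact hqM)
          exact hfix _ (hdisj _ hwM)
        · rw [hm.fix q hqM, hfix q hqT]
    intro q
    show x (z (w (x (z (w (x (z (w q)))))))) = q
    rw [hcomm, hcomm, hcomm, hcomm, hcomm, hcomm, S.cube, hm.cube]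
  · intro q hq
    simp only [Set.mem_union, not_or] at hq
    show x q = z (w q)
    rw [hm.fix q hq.2, S.agree q hq.1]
  · intro q hq
    rcases hq with hq | hq
    · exact hold q (S.odd q hq)
    · exact hcover q ⟨q, hq, on_refl _ _⟩
  · intro q hq
    show z (w q) ∈ T ∪ M
    rcases hq with hq | hq
    · rw [hm.fix q fun h => hdisj q h hq]
      exact Or.inl (S.zT q hq)
    · refine Or.inr (hm.mir _ ?_)
      by_contra h
      have e : w q = q := w.injective (hm.fix _ h)
      exact h (e.symm ▸ hq)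
  · intro hne q hq
    apply hne (w⁻¹ q)
    have h1 : w (z (w⁻¹ q)) = q := by
      rw [hc] at hq
      exact hq
    apply w.injective
    rw [h1]
    simp

end Cfsg.SymGraph
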